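import Mathlib
import Groth.Prelude.Def_Red
import Groth.Agent.H1.FinHopf.Etale
import Groth.Agent.H49.UnramFibre

/-!
# A finite locally free group scheme whose order is invertible on the base is étale (S13401)

Fibrewise reduction to `Groth.Agent.H1.FinHopf.etale_of_finrank_ne_zero`.
-/

set_option autoImplicit false
set_option linter.style.haveILetI false
universe u
open CategoryTheory Limits MonoidalCategory CartesianMonoidalCategory MonObj GrpObj AlgebraicGeometry
  Opposite

namespace Groth.Agent.H1.FinEtale

/-- fibres of a finite flat group scheme with invertible order are unramified -/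
theorem fibre_unramified {S : Scheme.{u}} (G : Over S) [GrpObj G] [IsFinite G.hom] [Flat G.hom]
    (s : S) (h : (Scheme.Hom.finrank G.hom s : S.residueField s) ≠ 0) :
    FormallyUnramified (G.hom.fiberToSpecResidueField s) := by
  let g : Spec (S.residueField s) ⟶ S := S.fromSpecResidueField s
  let Gs : Over (Spec (S.residueField s)) := Red.bc g G
  have hGs : Gs.hom = G.hom.fiberToSpecResidueField s := rfl
  haveI : IsFinite Gs.hom := (inferInstance : IsFinite (pullback.snd G.hom g))
  haveI : Flat Gs.hom := (inferInstance : Flat (pullback.snd G.hom g))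
  haveI : IsAffine Gs.left := isAffine_of_isAffineHom Gs.hom
  obtain ⟨Y, ⟨e⟩⟩ : (hopfSpec (S.residueField s)).essImage (Grp.mk Gs) :=
    essImage_hopfSpec.mpr ‹_›
  let E : Over.mk (Spec.map (CommRingCat.ofHom (algebraMap (S.residueField s) ↑(unop Y)))) ≅ Gs :=
    (Grp.forget _).mapIso e
  have hE : E.hom.left ≫ Gs.hom =
      Spec.map (CommRingCat.ofHom (algebraMap (S.residueField s) ↑(unop Y))) := Over.w E.hom
  haveI : IsIso E.hom.left := (Over.forget _).map_isIso E.hom
  haveI hfin : IsFinite (Spec.map (CommRingCat.ofHom
      (algebraMap (S.residueField s) ↑(unop Y)))) := by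
    rw [← hE]; infer_instance
  haveI : Module.Finite (S.residueField s) ↑(unop Y) := by
    have h1 := (IsFinite.SpecMap_iff _).1 hfin
    rw [CommRingCat.hom_ofHom] at h1
    exact RingHom.finite_algebraMap.1 h1
  have hrank : Module.finrank (S.residueField s) ↑(unop Y) = Scheme.Hom.finrank G.hom s := by
    have h1 := Scheme.Hom.finrank_SpecMap_algebraMap (S.residueField s) ↑(unop Y)
      (IsLocalRing.closedPoint (S.residueField s))
    rw [Module.rankAtStalk_eq_finrank_of_free] at h1
    have h2 : Scheme.Hom.finrank (Spec.map (CommRingCat.ofHom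
        (algebraMap (S.residueField s) ↑(unop Y)))) = Scheme.Hom.finrank Gs.hom := by
      rw [← hE, Scheme.Hom.finrank_comp_left_of_isIso]
    have h3 : Scheme.Hom.finrank Gs.hom (IsLocalRing.closedPoint (S.residueField s)) =
        Scheme.Hom.finrank G.hom (g (IsLocalRing.closedPoint (S.residueField s))) :=
      Scheme.Hom.finrank_pullback_snd G.hom g _
    have h4 : g (IsLocalRing.closedPoint (S.residueField s)) = s :=
      Scheme.fromSpecResidueField_apply s _
    rw [h2, h3, h4] at h1
    exact h1.symm
  have het : Algebra.Etale (S.residueField s) ↑(unop Y) :=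
    Groth.Agent.H1.FinHopf.etale_of_finrank_ne_zero (S.residueField s) ↑(unop Y)
      (by rw [hrank]; exact h)
  have hu : FormallyUnramified (Spec.map (CommRingCat.ofHom
      (algebraMap (S.residueField s) ↑(unop Y)))) := by
    rw [HasRingHomProperty.Spec_iff (P := @FormallyUnramified), CommRingCat.hom_ofHom,
      RingHom.formallyUnramified_algebraMap]
    infer_instance
  rw [← hGs]
  have h5 : Gs.hom = E.inv.left ≫
      Spec.map (CommRingCat.ofHom (algebraMap (S.residueField s) ↑(unop Y))) :=
    (Over.w E.inv).symm
  rw [h5]
  haveI : IsIso E.inv.left := (Over.forget _).map_isIso E.inv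
  have h6 : FormallyUnramified E.inv.left :=
    Groth.Agent.H49.UnramFibre.formallyUnramified_of_isOpenImmersion _
  exact MorphismProperty.comp_mem _ _ _ h6 hu

/-- S13401 -/
theorem main {S : Scheme.{u}} (G : Over S) [GrpObj G]
    [IsFinite G.hom] [Flat G.hom] [LocallyOfFinitePresentation G.hom]
    (h : ∀ s : S, (Scheme.Hom.finrank G.hom s : S.residueField s) ≠ 0) : Etale G.hom := by
  haveI : FormallyUnramified G.hom :=
    Groth.Agent.H49.UnramFibre.formallyUnramified_of_fiberToSpecResidueField G.hom
      (fun s => fibre_unramified G s (h s))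
  exact Etale.of_formallyUnramified_of_flat G.hom

end Groth.Agent.H1.FinEtale
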