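import Mathlib
import Groth.Prelude.Def_Red
import Groth.Agent.H1.FinHopf.Etale
import Groth.Agent.H49.UnramFibre

/-!
# A quasi-finite flat group scheme whose fibres have invertible order is étale (S18491)

Same fibrewise reduction as `Groth.Agent.H1.FinEtale.main`, the finiteness of the fibres coming
from `IsFinite.of_locallyQuasiFinite` (quasi-finite over a field is finite).
-/

set_option autoImplicit false
set_option linter.style.haveILetI false
universe u
open CategoryTheory Limits MonoidalCategory CartesianMonoidalCategory MonObj GrpObj AlgebraicGeometry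
  Opposite

namespace Groth.Agent.H1.FinEtale

/-- fibres with invertible order are unramified (fibre assumed finite flat over the residue
field) -/
theorem fibre_unramified' {S : Scheme.{u}} (G : Over S) [GrpObj G] (s : S)
    [IsFinite (pullback.snd G.hom (S.fromSpecResidueField s))]
    [Flat (pullback.snd G.hom (S.fromSpecResidueField s))]
    (h : ((pullback.snd G.hom (S.fromSpecResidueField s)).finrank
      (IsLocalRing.closedPoint (S.residueField s)) : S.residueField s) ≠ 0) :
    FormallyUnramified (G.hom.fiberToSpecResidueField s) := by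
  let g : Spec (S.residueField s) ⟶ S := S.fromSpecResidueField s
  let Gs : Over (Spec (S.residueField s)) := Red.bc g G
  have hGs : Gs.hom = G.hom.fiberToSpecResidueField s := rfl
  have hGs' : Gs.hom = pullback.snd G.hom (S.fromSpecResidueField s) := rfl
  haveI : IsFinite Gs.hom := (inferInstance : IsFinite (pullback.snd G.hom g))
  haveI : Flat Gs.hom := (inferInstance : Flat (pullback.snd G.hom g))
  haveI : IsAffine Gs.left := isAffine_of_isAffineHom Gs.hom
  obtain ⟨Y, ⟨e⟩⟩ : (hopfSpec (S.residueField s)).essImage (Grp.mk Gs) :=
    essImage_hopfSpec.mpr ‹_›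
  let E : Over.mk (Spec.map (CommRingCat.ofHom (algebraMap (S.residueField s) ↑(unop Y)))) ≅ Gs :=
    (Grp.forget _).mapIso e
  have hE : E.hom.left ≫ Gs.hom =
      Spec.map (CommRingCat.ofHom (algebraMap (S.residueField s) ↑(unop Y))) := Over.w E.hom
  haveI : IsIso E.hom.left := (Over.forget _).map_isIso E.hom
  haveI hfin : IsFinite (Spec.map (CommRingCat.ofHom
      (algebraMap (S.residueField s) ↑(unop Y)))) := by
    rw [← hE]; infer_instance
  haveI : Module.Finite (S.residueField s) ↑(unop Y) := by
    have h1 := (IsFinite.SpecMap_iff _).1 hfin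
    rw [CommRingCat.hom_ofHom] at h1
    exact RingHom.finite_algebraMap.1 h1
  have hrank : Module.finrank (S.residueField s) ↑(unop Y) =
      (pullback.snd G.hom (S.fromSpecResidueField s)).finrank
        (IsLocalRing.closedPoint (S.residueField s)) := by
    have h1 := Scheme.Hom.finrank_SpecMap_algebraMap (S.residueField s) ↑(unop Y)
      (IsLocalRing.closedPoint (S.residueField s))
    rw [Module.rankAtStalk_eq_finrank_of_free] at h1
    have h2 : Scheme.Hom.finrank (Spec.map (CommRingCat.ofHom
        (algebraMap (S.residueField s) ↑(unop Y)))) = Scheme.Hom.finrank Gs.hom := by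
      rw [← hE, Scheme.Hom.finrank_comp_left_of_isIso]
    rw [h2, hGs'] at h1
    exact h1.symm
  have het : Algebra.Etale (S.residueField s) ↑(unop Y) :=
    Groth.Agent.H1.FinHopf.etale_of_finrank_ne_zero (S.residueField s) ↑(unop Y)
      (by rw [hrank]; exact h)
  have hu : FormallyUnramified (Spec.map (CommRingCat.ofHom
      (algebraMap (S.residueField s) ↑(unop Y)))) := by
    rw [HasRingHomProperty.Spec_iff (P := @FormallyUnramified), CommRingCat.hom_ofHom,
      RingHom.formallyUnramified_algebraMap]
    infer_instance
  rw [← hGs]
  have h5 : Gs.hom = E.inv.left ≫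
      Spec.map (CommRingCat.ofHom (algebraMap (S.residueField s) ↑(unop Y))) :=
    (Over.w E.inv).symm
  rw [h5]
  haveI : IsIso E.inv.left := (Over.forget _).map_isIso E.inv
  have h6 : FormallyUnramified E.inv.left :=
    Groth.Agent.H49.UnramFibre.formallyUnramified_of_isOpenImmersion _
  exact MorphismProperty.comp_mem _ _ _ h6 hu

/-- S18491 -/
theorem main' {S : Scheme.{u}} (G : Over S) [GrpObj G]
    [LocallyQuasiFinite G.hom] [QuasiCompact G.hom] [Flat G.hom] [LocallyOfFinitePresentation G.hom]
    (h : ∀ (s : S) (x : ↥(Spec (S.residueField s))),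
      ((pullback.snd G.hom (S.fromSpecResidueField s)).finrank x : S.residueField s) ≠ 0) :
    Etale G.hom := by
  haveI : FormallyUnramified G.hom := by
    refine Groth.Agent.H49.UnramFibre.formallyUnramified_of_fiberToSpecResidueField G.hom
      (fun s => ?_)
    haveI : IsFinite (pullback.snd G.hom (S.fromSpecResidueField s)) :=
      (inferInstance : IsFinite (G.hom.fiberToSpecResidueField s))
    exact fibre_unramified' G s (h s _)
  exact Etale.of_formallyUnramified_of_flat G.hom

end Groth.Agent.H1.FinEtale
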